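import Cfsg.Agent.H982.LawNC
import Cfsg.Prelude.Def_Classical
set_option linter.all false

/-!
# Non-central values of words in the classical groups: linear, symplectic, orthogonal (helper982)
-/

set_option autoImplicit false

open scoped Matrix

namespace Cfsg.Agent.H982.LawFam

open Cfsg.Agent.H982.LawWord Cfsg.Agent.H982.LawSL Cfsg.Agent.H982.LawNC

variable (F : Type*) [Field F]

/-- permutation matrices as a homomorphism -/
def pmat (n : ℕ) : Equiv.Perm (Fin n) →* Matrix (Fin n) (Fin n) F where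
  toFun σ := Matrix.of fun i j => if i = σ j then 1 else 0
  map_one' := by
    ext i j
    simp only [Equiv.Perm.coe_one, id_eq, Matrix.of_apply, Matrix.one_apply]
    congr
  map_mul' σ τ := by
    ext i j
    simp only [Equiv.Perm.coe_mul, Function.comp_apply, Matrix.of_apply, Matrix.mul_apply, ite_mul, one_mul, zero_mul]
    rw [Finset.sum_eq_single (τ j)]
    · rw [if_pos rfl]
      rfl
    · intro k _ hk
      simp [hk]
    · intro h
      exact absurd (Finset.mem_univ _) h

theorem pmat_injective (n : ℕ) : Function.Injective (pmat F n) := by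
  intro σ τ h
  ext j
  have := congrFun (congrFun h (σ j)) j
  simp only [pmat, MonoidHom.coe_mk, OneHom.coe_mk, Matrix.of_apply, if_true] at this
  by_contra hne
  rw [if_neg (fun h => hne (congrArg Fin.val h))] at this
  exact one_ne_zero this

theorem toHomUnits_injective {G M : Type*} [Group G] [Monoid M] (f : G →* M) (hf : Function.Injective f) :
    Function.Injective f.toHomUnits := by
  intro x y h
  exact hf (congrArg Units.val h)

/-- permutation matrices in `GL` -/
def pGL (n : ℕ) : Equiv.Perm (Fin n) →* GL (Fin n) F := (pmat F n).toHomUnits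

theorem pGL_injective (n : ℕ) : Function.Injective (pGL F n) := toHomUnits_injective _ (pmat_injective F n)

/-- `SL₂` in the corner of `GL_n` -/
def sGL (n : ℕ) (hn : 2 ≤ n) : Matrix.SpecialLinearGroup (Fin 2) F →* GL (Fin n) F :=
  MonoidHom.toHomUnits
    { toFun := fun A => Matrix.reindex (finSumFinEquiv.trans (finCongr (by omega))) (finSumFinEquiv.trans (finCongr (by omega)))
        (Matrix.fromBlocks (A : Matrix (Fin 2) (Fin 2) F) 0 0 (1 : Matrix (Fin (n - 2)) (Fin (n - 2)) F))
      map_one' := by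
        rw [Matrix.SpecialLinearGroup.coe_one, Matrix.fromBlocks_one, Matrix.reindex_apply, Matrix.submatrix_one_equiv]
      map_mul' := fun A B => by
        rw [Matrix.reindex_apply, Matrix.reindex_apply, Matrix.reindex_apply, Matrix.submatrix_mul_equiv,
          Matrix.fromBlocks_multiply, Matrix.SpecialLinearGroup.coe_mul]
        simp }

theorem sGL_injective (n : ℕ) (hn : 2 ≤ n) : Function.Injective (sGL F n hn) := by
  refine toHomUnits_injective _ ?_
  intro A B h
  have h1 := (Matrix.reindex _ _).injective h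
  have h2 := (Matrix.fromBlocks_inj.1 h1).1
  exact Subtype.ext h2

/-- the commutator subgroup of `GL_n` maps to `SL_n` -/
def cSL (n : ℕ) : commutator (GL (Fin n) F) →* Matrix.SpecialLinearGroup (Fin n) F where
  toFun x := ⟨((x : GL (Fin n) F) : Matrix (Fin n) (Fin n) F), by
    have h : (x : GL (Fin n) F) ∈ (Matrix.GeneralLinearGroup.det : GL (Fin n) F →* Fˣ).ker :=
      Abelianization.commutator_subset_ker _ x.2
    have h2 := congrArg Units.val (MonoidHom.mem_ker.1 h)
    simpa using h2⟩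
  map_one' := rfl
  map_mul' x y := rfl

theorem cSL_injective (n : ℕ) : Function.Injective (cSL F n) := by
  intro x y h
  have := congrArg Subtype.val h
  exact Subtype.ext (Units.ext this)

variable {F}

/-- a word has non-central values in the commutator subgroup of `GL_n(F)` when `n ≥ 2` and `F` or `n` is large -/
theorem nc_gl {w : FreeGroup ℕ} (hw : w ≠ 1) : ∃ N : ℕ, ∀ (F : Type*) [Field F] [Fintype F] (n : ℕ), 2 ≤ n →
    (N ≤ n ∨ N ≤ Fintype.card F) → NC w (commutator (GL (Fin n) F)) := by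
  obtain ⟨N, hN⟩ := nc_perm hw
  refine ⟨max N (PP.bnd w.toWord + 4), fun F _ _ n hn h => ?_⟩
  rcases h with h | h
  · exact (hN n (le_trans (le_max_left _ _) h)).comm _ (pGL_injective F n)
  · exact (nc_sl2 F hw (le_trans (le_max_right _ _) h)).comm _ (sGL_injective F n hn)

/-! ### symplectic and orthogonal groups -/

variable (F)

/-- `GL_m` in the stabiliser of two complementary totally singular subspaces, as matrices -/
def hyp (m : ℕ) : GL (Fin m) F →* Matrix (Fin m ⊕ Fin m) (Fin m ⊕ Fin m) F where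
  toFun A := Matrix.fromBlocks (A : Matrix (Fin m) (Fin m) F) 0 0 ((A⁻¹ : GL (Fin m) F) : Matrix (Fin m) (Fin m) F)ᵀ
  map_one' := by simp
  map_mul' A B := by
    rw [Matrix.fromBlocks_multiply]
    simp [Matrix.transpose_mul]

theorem hyp_injective (m : ℕ) : Function.Injective (hyp F m) := by
  intro A B h
  exact Units.ext (Matrix.fromBlocks_inj.1 h).1

theorem hyp_mem (m : ℕ) (A : GL (Fin m) F) : hyp F m A ∈ Matrix.symplecticGroup (Fin m) F := by
  rw [SymplecticGroup.mem_iff, Matrix.J]
  simp only [hyp, MonoidHom.coe_mk, OneHom.coe_mk, Matrix.fromBlocks_transpose, Matrix.fromBlocks_multiply]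
  simp
  rw [← Matrix.transpose_mul]
  simp

/-- `GL_m → Sp_{2m}` -/
def gSp (m : ℕ) : GL (Fin m) F →* Matrix.symplecticGroup (Fin m) F where
  toFun A := ⟨hyp F m A, hyp_mem F m A⟩
  map_one' := Subtype.ext (map_one _)
  map_mul' _ _ := Subtype.ext (map_mul _ _ _)

theorem gSp_injective (m : ℕ) : Function.Injective (gSp F m) := by
  intro A B h
  exact hyp_injective F m (congrArg Subtype.val h)

/-- the hyperbolic embedding is isometric -/
theorem hyp_form (m : ℕ) (A : GL (Fin m) F) (x y : Fin m → F) :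
    ((A : Matrix (Fin m) (Fin m) F) *ᵥ x) ⬝ᵥ (((A⁻¹ : GL (Fin m) F) : Matrix (Fin m) (Fin m) F)ᵀ *ᵥ y) = x ⬝ᵥ y := by
  rw [Matrix.dotProduct_mulVec, Matrix.vecMul_transpose, Matrix.mulVec_mulVec, ← Units.val_mul, inv_mul_cancel,
    Units.val_one, Matrix.one_mulVec]

section orth

variable {ι : Type} [Fintype ι] [DecidableEq ι]

/-- a homomorphism to the isometry group from a matrix homomorphism -/
def toIso {G : Type*} [Group G] (f : G →* Matrix ι ι F) (Q : (ι → F) → F) (h : ∀ g v, Q (f g *ᵥ v) = Q v) :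
    G →* Cfsg.isometryGroup F Q :=
  f.toHomUnits.codRestrict _ fun g v _ => h g v

theorem toIso_injective {G : Type*} [Group G] (f : G →* Matrix ι ι F) (Q : (ι → F) → F) (h : ∀ g v, Q (f g *ᵥ v) = Q v)
    (hf : Function.Injective f) : Function.Injective (toIso F f Q h) := by
  intro x y hxy
  exact toHomUnits_injective f hf (congrArg Subtype.val hxy)

end orth

theorem hyp_mulVec (m : ℕ) (A : GL (Fin m) F) (v : Fin m ⊕ Fin m → F) :
    hyp F m A *ᵥ v = Sum.elim ((A : Matrix (Fin m) (Fin m) F) *ᵥ (v ∘ Sum.inl))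
      (((A⁻¹ : GL (Fin m) F) : Matrix (Fin m) (Fin m) F)ᵀ *ᵥ (v ∘ Sum.inr)) := by
  simp only [hyp, MonoidHom.coe_mk, OneHom.coe_mk]
  rw [Matrix.fromBlocks_mulVec]
  simp only [Matrix.zero_mulVec, add_zero, zero_add]

theorem plus_inv (m : ℕ) (A : GL (Fin m) F) (v : Fin m ⊕ Fin m → F) :
    Cfsg.quadFormPlus m F (hyp F m A *ᵥ v) = Cfsg.quadFormPlus m F v := by
  rw [hyp_mulVec]
  exact hyp_form F m A (v ∘ Sum.inl) (v ∘ Sum.inr)

/-- `GL_m → O_{2m}^+` -/
def gPlus (m : ℕ) : GL (Fin m) F →* Cfsg.isometryGroup F (Cfsg.quadFormPlus m F) :=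
  toIso F (hyp F m) _ (plus_inv F m)

theorem gPlus_injective (m : ℕ) : Function.Injective (gPlus F m) := toIso_injective F _ _ _ (hyp_injective F m)

/-- block diagonal embedding, identity on the right -/
def blkL (α β : Type) [Fintype α] [DecidableEq α] [Fintype β] [DecidableEq β] :
    Matrix α α F →* Matrix (α ⊕ β) (α ⊕ β) F where
  toFun A := Matrix.fromBlocks A 0 0 1
  map_one' := Matrix.fromBlocks_one
  map_mul' A B := by rw [Matrix.fromBlocks_multiply]; simp

/-- block diagonal embedding, identity on the left -/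
def blkR (α β : Type) [Fintype α] [DecidableEq α] [Fintype β] [DecidableEq β] :
    Matrix β β F →* Matrix (α ⊕ β) (α ⊕ β) F where
  toFun A := Matrix.fromBlocks 1 0 0 A
  map_one' := Matrix.fromBlocks_one
  map_mul' A B := by rw [Matrix.fromBlocks_multiply]; simp

theorem odd_inv (m : ℕ) (A : GL (Fin m) F) (v : Unit ⊕ (Fin m ⊕ Fin m) → F) :
    Cfsg.quadFormOdd m F (((blkR F Unit (Fin m ⊕ Fin m)).comp (hyp F m)) A *ᵥ v) = Cfsg.quadFormOdd m F v := by
  have h1 : ((blkR F Unit (Fin m ⊕ Fin m)).comp (hyp F m)) A *ᵥ v =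
      Sum.elim (v ∘ Sum.inl) (hyp F m A *ᵥ (v ∘ Sum.inr)) := by
    simp only [blkR, MonoidHom.comp_apply, MonoidHom.coe_mk, OneHom.coe_mk]
    rw [Matrix.fromBlocks_mulVec]
    simp only [Matrix.zero_mulVec, add_zero, zero_add, Matrix.one_mulVec]
  rw [h1]
  have h2 := plus_inv F m A (v ∘ Sum.inr)
  simp only [Cfsg.quadFormPlus] at h2
  simp only [Cfsg.quadFormOdd, Sum.elim_inl, Sum.elim_inr, Function.comp_apply]
  rw [h2]
  rfl

/-- `GL_m → O_{2m+1}` -/
def gOdd (m : ℕ) : GL (Fin m) F →* Cfsg.isometryGroup F (Cfsg.quadFormOdd m F) :=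
  toIso F ((blkR F Unit (Fin m ⊕ Fin m)).comp (hyp F m)) _ (odd_inv F m)

theorem gOdd_injective (m : ℕ) : Function.Injective (gOdd F m) := toIso_injective F _ _ _ (by
  intro A B h
  exact hyp_injective F m (Matrix.fromBlocks_inj.1 h).2.2.2)

theorem minus_inv (m : ℕ) (a b : F) (A : GL (Fin m) F) (v : (Fin m ⊕ Fin m) ⊕ Fin 2 → F) :
    Cfsg.quadFormMinus m F a b (((blkL F (Fin m ⊕ Fin m) (Fin 2)).comp (hyp F m)) A *ᵥ v) =
      Cfsg.quadFormMinus m F a b v := by
  have h1 : ((blkL F (Fin m ⊕ Fin m) (Fin 2)).comp (hyp F m)) A *ᵥ v =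
      Sum.elim (hyp F m A *ᵥ (v ∘ Sum.inl)) (v ∘ Sum.inr) := by
    simp only [blkL, MonoidHom.comp_apply, MonoidHom.coe_mk, OneHom.coe_mk]
    rw [Matrix.fromBlocks_mulVec]
    simp only [Matrix.zero_mulVec, add_zero, zero_add, Matrix.one_mulVec]
  rw [h1]
  have h2 := plus_inv F m A (v ∘ Sum.inl)
  simp only [Cfsg.quadFormPlus] at h2
  simp only [Cfsg.quadFormMinus, Sum.elim_inl, Sum.elim_inr, Function.comp_apply]
  rw [h2]
  rfl

/-- `GL_m → O_{2m+2}^-` -/
def gMinus (m : ℕ) (a b : F) : GL (Fin m) F →* Cfsg.isometryGroup F (Cfsg.quadFormMinus m F a b) :=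
  toIso F ((blkL F (Fin m ⊕ Fin m) (Fin 2)).comp (hyp F m)) _ (minus_inv F m a b)

theorem gMinus_injective (m : ℕ) (a b : F) : Function.Injective (gMinus F m a b) := toIso_injective F _ _ _ (by
  intro A B h
  exact hyp_injective F m (Matrix.fromBlocks_inj.1 h).1)

end Cfsg.Agent.H982.LawFam
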