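import Mathlib
set_option linter.all false

-- part: H982/LawWord
section
/-!
# Non-trivial words in alternating products of "upper" and "lower" elements (helper982)

`PP K Γ V`: a group `Γ` acting on `V`, with one-parameter families `u`, `l` indexed by polynomials over a field `K`, and
"dominance" predicates `Up D v`, `Low D v`.  For a reduced non-empty word `L` in letters `g i = u (X^(i+2)) * l X * u (X - X^(i+2))`
the vector `L • e` is `u α` applied to a vector in the state `Low D`, `1 ≤ D ≤ bound L`.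
-/

set_option autoImplicit false

open Polynomial

namespace Cfsg.Agent.H982.LawWord

/-- The input of the ping-pong on degrees. -/
structure PP (K : Type*) [Field K] (Γ V : Type*) [Group Γ] where
  act : Γ → V → V
  act_mul : ∀ x y v, act (x * y) v = act x (act y v)
  u : K[X] → Γ
  l : K[X] → Γ
  u_add : ∀ a b, u (a + b) = u a * u b
  l_add : ∀ a b, l (a + b) = l a * l b
  Up : ℕ → V → Prop
  Low : ℕ → V → Prop
  e : V
  up_e : Up 0 e
  u_e : ∀ m, act (u m) e = e
  u_low : ∀ D v m, Low D v → 1 ≤ natDegree m → Up (D + natDegree m) (act (u m) v)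
  l_up : ∀ D v m, Up D v → 1 ≤ natDegree m → Low (D + natDegree m) (act (l m) v)

namespace PP

variable {K : Type*} [Field K] {Γ V : Type*} [Group Γ] (P : PP K Γ V)

/-- the free generators -/
noncomputable def g (i : ℕ) : Γ := P.u (X ^ (i + 2)) * P.l X * P.u (X - X ^ (i + 2))

theorem u_zero : P.u 0 = 1 := by
  have h := P.u_add 0 0
  rw [add_zero] at h
  exact left_eq_mul.mp h

theorem l_zero : P.l 0 = 1 := by
  have h := P.l_add 0 0
  rw [add_zero] at h
  exact left_eq_mul.mp h

theorem u_neg (a : K[X]) : P.u (-a) = (P.u a)⁻¹ := by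
  rw [eq_inv_iff_mul_eq_one, ← P.u_add, neg_add_cancel, u_zero]

theorem l_neg (a : K[X]) : P.l (-a) = (P.l a)⁻¹ := by
  rw [eq_inv_iff_mul_eq_one, ← P.l_add, neg_add_cancel, l_zero]

/-- left parameter of a letter -/
noncomputable def al (x : ℕ × Bool) : K[X] := cond x.2 (X ^ (x.1 + 2)) (X ^ (x.1 + 2) - X)

/-- middle parameter of a letter -/
noncomputable def be (x : ℕ × Bool) : K[X] := cond x.2 X (-X)

/-- right parameter of a letter -/
noncomputable def ga (x : ℕ × Bool) : K[X] := cond x.2 (X - X ^ (x.1 + 2)) (-X ^ (x.1 + 2))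

/-- the value of a letter -/
noncomputable def let' (x : ℕ × Bool) : Γ := cond x.2 (P.g x.1) (P.g x.1)⁻¹

theorem let_eq (x : ℕ × Bool) : P.let' x = P.u (al x) * P.l (be x) * P.u (ga x) := by
  rcases x with ⟨i, b⟩
  cases b
  · simp only [let', g, al, be, ga, cond_false]
    rw [mul_inv_rev, mul_inv_rev, P.l_neg, P.u_neg, ← P.u_neg (X - X ^ (i + 2)), neg_sub]
    group
  · simp only [let', g, al, be, ga, cond_true]

theorem natDegree_be (x : ℕ × Bool) : natDegree (be x : K[X]) = 1 := by
  rcases x with ⟨i, b⟩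
  cases b <;> simp [be]

theorem natDegree_mid (x y : ℕ × Bool) (h : x.1 = y.1 → x.2 = y.2) :
    1 ≤ natDegree (ga x + al y : K[X]) ∧ natDegree (ga x + al y : K[X]) ≤ x.1 + y.1 + 2 := by
  have key : ∀ (i j : ℕ) (c : K), i ≠ j →
      1 ≤ natDegree (X ^ (j + 2) - X ^ (i + 2) + C c * X : K[X]) ∧
        natDegree (X ^ (j + 2) - X ^ (i + 2) + C c * X : K[X]) ≤ i + j + 2 := by
    intro i j c hij
    constructor
    · rcases lt_or_gt_of_ne hij with h | h
      · have hc : (X ^ (j + 2) - X ^ (i + 2) + C c * X : K[X]).coeff (j + 2) = 1 := by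
          simp [coeff_X_pow]
          omega
        have : j + 2 ≤ natDegree (X ^ (j + 2) - X ^ (i + 2) + C c * X : K[X]) :=
          le_natDegree_of_ne_zero (by rw [hc]; exact one_ne_zero)
        omega
      · have hc : (X ^ (j + 2) - X ^ (i + 2) + C c * X : K[X]).coeff (i + 2) = -1 := by
          have : ¬ i = j := by omega
          simp [coeff_X_pow, this]
        have : i + 2 ≤ natDegree (X ^ (j + 2) - X ^ (i + 2) + C c * X : K[X]) :=
          le_natDegree_of_ne_zero (by rw [hc]; exact neg_ne_zero.2 one_ne_zero)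
        omega
    · have e1 : natDegree (X ^ (j + 2) - X ^ (i + 2) : K[X]) ≤ i + j + 2 := by
        refine (natDegree_sub_le _ _).trans (max_le ?_ ?_)
        · rw [natDegree_X_pow]; omega
        · rw [natDegree_X_pow]; omega
      exact natDegree_add_le_of_degree_le e1 ((natDegree_C_mul_le _ _).trans (by rw [natDegree_X]; omega))
  rcases x with ⟨i, b⟩
  rcases y with ⟨j, c⟩
  simp only at h
  by_cases hij : i = j
  · subst hij
    have := h rfl
    subst this
    cases b
    · have : (ga (i, false) + al (i, false) : K[X]) = -X := by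
        simp only [ga, al, cond_false]; ring
      rw [this]; simp
    · have : (ga (i, true) + al (i, true) : K[X]) = X := by
        simp only [ga, al, cond_true]; ring
      rw [this]; simp
  · cases b <;> cases c
    · have : (ga (i, false) + al (j, false) : K[X]) = X ^ (j + 2) - X ^ (i + 2) + C (-1) * X := by
        simp only [ga, al, cond_false, map_neg, map_one]; ring
      rw [this]; exact key i j _ hij
    · have : (ga (i, false) + al (j, true) : K[X]) = X ^ (j + 2) - X ^ (i + 2) + C 0 * X := by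
        simp only [ga, al, cond_false, cond_true, map_zero]; ring
      rw [this]; exact key i j _ hij
    · have : (ga (i, true) + al (j, false) : K[X]) = X ^ (j + 2) - X ^ (i + 2) + C 0 * X := by
        simp only [ga, al, cond_false, cond_true, map_zero]; ring
      rw [this]; exact key i j _ hij
    · have : (ga (i, true) + al (j, true) : K[X]) = X ^ (j + 2) - X ^ (i + 2) + C 1 * X := by
        simp only [ga, al, cond_true, map_one]; ring
      rw [this]; exact key i j _ hij

/-- the bound on degrees -/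
def bnd (L : List (ℕ × Bool)) : ℕ := (L.map fun x => 2 * x.1 + 3).sum

theorem word : ∀ (L : List (ℕ × Bool)) (x : ℕ × Bool), FreeGroup.IsReduced (x :: L) →
    ∃ (D : ℕ) (v : V), 1 ≤ D ∧ D + x.1 ≤ bnd (x :: L) ∧ P.Low D v ∧
      P.act ((x :: L).map P.let').prod P.e = P.act (P.u (al x)) v := by
  intro L
  induction L with
  | nil =>
    intro x _
    refine ⟨1, P.act (P.l (be x)) P.e, le_rfl, ?_, ?_, ?_⟩
    · simp [bnd]; omega
    · have := P.l_up 0 P.e (be x) P.up_e (by rw [natDegree_be])
      rwa [natDegree_be] at this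
    · simp only [List.map_cons, List.map_nil, List.prod_cons, List.prod_nil, mul_one]
      rw [P.let_eq, P.act_mul, P.act_mul, P.u_e]
  | cons y L ih =>
    intro x hx
    rw [FreeGroup.isReduced_cons_cons] at hx
    obtain ⟨D, v, h1, h2, h3, h4⟩ := ih y hx.2
    obtain ⟨m1, m2⟩ := natDegree_mid (K := K) x y hx.1
    have e1 := P.u_low D v _ h3 m1
    have e2 := P.l_up _ _ (be x) e1 (by rw [natDegree_be])
    rw [natDegree_be] at e2
    refine ⟨_, _, ?_, ?_, e2, ?_⟩
    · omega
    · have : bnd (x :: y :: L) = 2 * x.1 + 3 + bnd (y :: L) := by simp [bnd]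
      rw [this]
      omega
    · rw [List.map_cons, List.prod_cons, P.act_mul, h4, P.let_eq, P.act_mul, P.act_mul, ← P.act_mul (P.u (ga x)),
        ← P.u_add]

theorem exists_of_ne_one {w : FreeGroup ℕ} (hw : w ≠ 1) :
    ∃ (D : ℕ) (v : V) (a : K[X]), 1 ≤ D ∧ D ≤ bnd w.toWord ∧ P.Low D v ∧
      P.act (FreeGroup.lift P.g w) P.e = P.act (P.u a) v := by
  have hr := FreeGroup.isReduced_toWord (x := w)
  have hne : w.toWord ≠ [] := fun h => hw (FreeGroup.toWord_eq_nil_iff.1 h)
  have hl : FreeGroup.lift P.g w = (w.toWord.map P.let').prod := by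
    conv_lhs => rw [← FreeGroup.mk_toWord (x := w)]
    rw [FreeGroup.lift_mk]
    rfl
  rw [hl]
  cases hL : w.toWord with
  | nil => exact absurd hL hne
  | cons x L =>
    rw [hL] at hr
    obtain ⟨D, v, h1, h2, h3, h4⟩ := P.word L x hr
    exact ⟨D, v, _, h1, by omega, h3, h4⟩

end PP

end Cfsg.Agent.H982.LawWord
end

-- part: H982/LawSL
section
/-!
# Non-trivial words take non-central values in `SL₂(F)`, `F` large (helper982)
-/

set_option autoImplicit false

open Polynomial

namespace Cfsg.Agent.H982.LawSL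

open Cfsg.Agent.H982.LawWord

variable {R : Type*} [CommRing R]

/-- upper transvection -/
def up (b : R) : Matrix.SpecialLinearGroup (Fin 2) R := ⟨!![1, b; 0, 1], by simp [Matrix.det_fin_two]⟩

/-- lower transvection -/
def lo (b : R) : Matrix.SpecialLinearGroup (Fin 2) R := ⟨!![1, 0; b, 1], by simp [Matrix.det_fin_two]⟩

theorem coe_up (b : R) : (up b : Matrix (Fin 2) (Fin 2) R) = !![1, b; 0, 1] := rfl

theorem coe_lo (b : R) : (lo b : Matrix (Fin 2) (Fin 2) R) = !![1, 0; b, 1] := rfl

theorem up_add (a b : R) : up (a + b) = up a * up b := by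
  apply Subtype.ext
  rw [Matrix.SpecialLinearGroup.coe_mul, coe_up, coe_up, coe_up, Matrix.mul_fin_two]
  simp [add_comm]

theorem lo_add (a b : R) : lo (a + b) = lo a * lo b := by
  apply Subtype.ext
  rw [Matrix.SpecialLinearGroup.coe_mul, coe_lo, coe_lo, coe_lo, Matrix.mul_fin_two]
  simp

/-- the degree data for `SL₂(K[X])` -/
noncomputable def pp (K : Type*) [Field K] : PP K (Matrix.SpecialLinearGroup (Fin 2) K[X]) (Fin 2 → K[X]) where
  act g v := Matrix.mulVec (g : Matrix (Fin 2) (Fin 2) K[X]) v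
  act_mul x y v := by rw [Matrix.SpecialLinearGroup.coe_mul, Matrix.mulVec_mulVec]
  u := up
  l := lo
  u_add := up_add
  l_add := lo_add
  Up D v := (v 0).degree = (D : ℕ) ∧ (v 1).degree < (D : ℕ)
  Low D v := (v 1).degree = (D : ℕ) ∧ (v 0).degree < (D : ℕ)
  e := ![1, 0]
  up_e := by simp
  u_e m := by
    ext i
    fin_cases i <;> simp [up, Matrix.mulVec, dotProduct, Fin.sum_univ_two]
  u_low D v m h hm := by
    have hm0 : m ≠ 0 := by rintro rfl; simp at hm
    have e0 : Matrix.mulVec (up m : Matrix (Fin 2) (Fin 2) K[X]) v 0 = v 0 + m * v 1 := by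
      simp [up, Matrix.mulVec, dotProduct, Fin.sum_univ_two]
    have e1 : Matrix.mulVec (up m : Matrix (Fin 2) (Fin 2) K[X]) v 1 = v 1 := by
      simp [up, Matrix.mulVec, dotProduct, Fin.sum_univ_two]
    have hd : (m * v 1).degree = ((D + natDegree m : ℕ) : WithBot ℕ) := by
      rw [degree_mul, h.1, degree_eq_natDegree hm0, add_comm, Nat.cast_add]
    have hlt : ((D : ℕ) : WithBot ℕ) < ((D + natDegree m : ℕ) : WithBot ℕ) := by
      exact_mod_cast (by omega : D < D + natDegree m)
    refine ⟨?_, ?_⟩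
    · rw [e0, degree_add_eq_right_of_degree_lt, hd]
      rw [hd]
      exact h.2.trans hlt
    · rw [e1, h.1]; exact hlt
  l_up D v m h hm := by
    have hm0 : m ≠ 0 := by rintro rfl; simp at hm
    have e0 : Matrix.mulVec (lo m : Matrix (Fin 2) (Fin 2) K[X]) v 0 = v 0 := by
      simp [lo, Matrix.mulVec, dotProduct, Fin.sum_univ_two]
    have e1 : Matrix.mulVec (lo m : Matrix (Fin 2) (Fin 2) K[X]) v 1 = m * v 0 + v 1 := by
      simp [lo, Matrix.mulVec, dotProduct, Fin.sum_univ_two]
    have hd : (m * v 0).degree = ((D + natDegree m : ℕ) : WithBot ℕ) := by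
      rw [degree_mul, h.1, degree_eq_natDegree hm0, add_comm, Nat.cast_add]
    have hlt : ((D : ℕ) : WithBot ℕ) < ((D + natDegree m : ℕ) : WithBot ℕ) := by
      exact_mod_cast (by omega : D < D + natDegree m)
    refine ⟨?_, ?_⟩
    · rw [e1, degree_add_eq_left_of_degree_lt, hd]
      rw [hd]
      exact h.2.trans hlt
    · rw [e0, h.1]; exact hlt

/-- the letters over a ring -/
def let2 (t : R) (i : ℕ) : Matrix.SpecialLinearGroup (Fin 2) R := up (t ^ (i + 2)) * lo t * up (t - t ^ (i + 2))

theorem map_up {S : Type*} [CommRing S] (f : R →+* S) (b : R) : Matrix.SpecialLinearGroup.map f (up b) = up (f b) := by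
  apply Subtype.ext
  ext i j
  rw [Matrix.SpecialLinearGroup.map_apply_coe, coe_up, coe_up]
  fin_cases i <;> fin_cases j <;> simp

theorem map_lo {S : Type*} [CommRing S] (f : R →+* S) (b : R) : Matrix.SpecialLinearGroup.map f (lo b) = lo (f b) := by
  apply Subtype.ext
  ext i j
  rw [Matrix.SpecialLinearGroup.map_apply_coe, coe_lo, coe_lo]
  fin_cases i <;> fin_cases j <;> simp

theorem map_let2 {S : Type*} [CommRing S] (f : R →+* S) (t : R) (i : ℕ) :
    Matrix.SpecialLinearGroup.map f (let2 t i) = let2 (f t) i := by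
  simp only [let2, map_mul, map_up, map_lo, map_pow, map_sub]

theorem lift_comp {G H : Type*} [Group G] [Group H] (φ : G →* H) (f : ℕ → G) (w : FreeGroup ℕ) :
    φ (FreeGroup.lift f w) = FreeGroup.lift (fun i => φ (f i)) w := by
  have : φ.comp (FreeGroup.lift f) = FreeGroup.lift (fun i => φ (f i)) := by
    ext i
    simp
  exact DFunLike.congr_fun this w

theorem exists_entry_ne_zero (K : Type*) [Field K] [Fintype K] {w : FreeGroup ℕ} (hw : w ≠ 1)
    (hN : PP.bnd w.toWord < Fintype.card K) :
    ∃ t : K, (FreeGroup.lift (let2 t) w : Matrix (Fin 2) (Fin 2) K) 1 0 ≠ 0 := by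
  obtain ⟨D, v, a, h1, h2, h3, h4⟩ := (pp K).exists_of_ne_one hw
  have hg : (pp K).g = let2 (X : K[X]) := by
    funext i
    rfl
  have hcol : (FreeGroup.lift (let2 (X : K[X])) w : Matrix (Fin 2) (Fin 2) K[X]) 1 0 = v 1 := by
    have := congrFun h4 1
    rw [hg] at this
    simpa [pp, up, Matrix.mulVec, dotProduct, Fin.sum_univ_two] using this
  set p : K[X] := v 1 with hp
  have hdeg : p.degree = (D : ℕ) := h3.1
  have hp0 : p ≠ 0 := by
    rintro h
    rw [h, degree_zero] at hdeg
    exact absurd hdeg (by simp)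
  obtain ⟨t, ht⟩ := exists_eval_ne_zero_of_natDegree_lt_card p hp0 (by
    rw [natDegree_eq_of_degree_eq_some hdeg, Cardinal.mk_fintype]
    exact_mod_cast lt_of_le_of_lt h2 hN)
  refine ⟨t, ?_⟩
  have hm := lift_comp (Matrix.SpecialLinearGroup.map (evalRingHom t)) (let2 (X : K[X])) w
  have hm2 : (fun i => Matrix.SpecialLinearGroup.map (evalRingHom t) (let2 (X : K[X]) i)) = let2 t := by
    funext i
    rw [map_let2]
    simp
  rw [hm2] at hm
  rw [← hm]
  simpa [hcol] using ht

end Cfsg.Agent.H982.LawSL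
end
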